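/-
The number of nilpotent matrices (Fine–Herstein).
Main results (namespace `Cfsg.Agent.NilpotentCount`):
* `card_nilpotent`: there are `q ^ (n (n - 1))` nilpotent `n × n` matrices over a field of `q` elements.
-/
import Cfsg.Agent.EqLemmas

set_option autoImplicit false

namespace Cfsg.Agent.NilpotentCount

open Matrix

variable {F : Type*} [Field F]

section count

variable {k m : ℕ}

/-- The matrix of a single chain. -/
def chainMat (F : Type*) [Field F] (k : ℕ) : Matrix (Fin k) (Fin k) F :=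
  fun r i => if (r : ℕ) = (i : ℕ) + 1 then 1 else 0

theorem chainMat_pow_apply (j : ℕ) (r i : Fin k) (h : (chainMat F k ^ j) r i ≠ 0) : (r : ℕ) = i + j := by
  induction j generalizing i with
  | zero =>
    rw [pow_zero, Matrix.one_apply] at h
    by_contra hne
    exact h (if_neg fun h' => hne (by rw [h']; rfl))
  | succ j ih =>
    rw [pow_succ, Matrix.mul_apply] at h
    obtain ⟨x, -, hx⟩ := Finset.exists_ne_zero_of_sum_ne_zero h
    have h1 := ih x (left_ne_zero_of_mul hx)
    have h2 : (x : ℕ) = i + 1 := by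
      by_contra hne
      exact right_ne_zero_of_mul hx (if_neg hne)
    omega

theorem chainMat_pow_eq_zero : chainMat F k ^ k = 0 := by
  ext r i
  by_contra h
  have := chainMat_pow_apply k r i h
  omega

theorem fromBlocks_pow (A : Matrix (Fin k) (Fin k) F) (B : Matrix (Fin k) (Fin m) F)
    (D : Matrix (Fin m) (Fin m) F) (j : ℕ) :
    ∃ X, (fromBlocks A B 0 D) ^ j = fromBlocks (A ^ j) X 0 (D ^ j) := by
  induction j with
  | zero => exact ⟨0, by simp⟩
  | succ j ih =>
    obtain ⟨X, hX⟩ := ih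
    refine ⟨A ^ j * B + X * D, ?_⟩
    rw [pow_succ, hX, fromBlocks_multiply]
    simp [pow_succ]

theorem isNilpotent_fromBlocks_iff {A : Matrix (Fin k) (Fin k) F} {B : Matrix (Fin k) (Fin m) F}
    {D : Matrix (Fin m) (Fin m) F} (hA : IsNilpotent A) :
    IsNilpotent (fromBlocks A B 0 D) ↔ IsNilpotent D := by
  constructor
  · rintro ⟨j, hj⟩
    obtain ⟨X, hX⟩ := fromBlocks_pow A B D j
    rw [hX, ← fromBlocks_zero] at hj
    exact ⟨j, (fromBlocks_inj.1 hj).2.2.2⟩
  · rintro ⟨b, hb⟩
    obtain ⟨a, ha⟩ := hA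
    obtain ⟨X, hX⟩ := fromBlocks_pow A B D a
    obtain ⟨Y, hY⟩ := fromBlocks_pow A B D b
    refine ⟨a + b, ?_⟩
    rw [pow_add, hX, hY, ha, hb, fromBlocks_multiply]
    simp

/-- Matrices `[[chain, B], [0, D]]` with `D` nilpotent. -/
def blockEquiv :
    {M : Matrix (Fin k ⊕ Fin m) (Fin k ⊕ Fin m) F // IsNilpotent M ∧ M.toBlocks₁₁ = chainMat F k ∧ M.toBlocks₂₁ = 0} ≃
      Matrix (Fin k) (Fin m) F × {D : Matrix (Fin m) (Fin m) F // IsNilpotent D} where
  toFun M := (M.1.toBlocks₁₂, ⟨M.1.toBlocks₂₂, by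
    have h := M.2.1
    rw [← fromBlocks_toBlocks M.1, M.2.2.1, M.2.2.2] at h
    exact (isNilpotent_fromBlocks_iff ⟨k, chainMat_pow_eq_zero⟩).1 h⟩)
  invFun x := ⟨fromBlocks (chainMat F k) x.1 0 x.2.1,
    (isNilpotent_fromBlocks_iff ⟨k, chainMat_pow_eq_zero⟩).2 x.2.2, toBlocks_fromBlocks₁₁ _ _ _ _, toBlocks_fromBlocks₂₁ _ _ _ _⟩
  left_inv M := Subtype.ext (by
    change fromBlocks (chainMat F k) M.1.toBlocks₁₂ 0 M.1.toBlocks₂₂ = M.1
    conv_rhs => rw [← fromBlocks_toBlocks M.1, M.2.2.1, M.2.2.2])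
  right_inv x := by simp

end count

variable {n : ℕ}

/-- `M` moves `s` one step along and kills its last vector. -/
def IsChain {k : ℕ} (M : Matrix (Fin n) (Fin n) F) (s : Fin k → Fin n → F) : Prop :=
  ∀ i : Fin k, M *ᵥ s i = if h : (i : ℕ) + 1 < k then s ⟨i + 1, h⟩ else 0

theorem card_chain [Finite F] {k : ℕ} (s : Fin k → Fin n → F) (hs : LinearIndependent F s) :
    Nat.card {M : Matrix (Fin n) (Fin n) F // IsNilpotent M ∧ IsChain M s} =
      Nat.card F ^ (k * (n - k)) * Nat.card {D : Matrix (Fin (n - k)) (Fin (n - k)) F // IsNilpotent D} := by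
  classical
  have hkn : k ≤ n := by simpa using hs.fintype_card_le_finrank
  let b₀ := Module.Basis.sumExtend hs
  haveI : Finite (Fin k ⊕ Module.Basis.sumExtendIndex hs) := Module.Finite.finite_basis b₀
  haveI : Finite (Module.Basis.sumExtendIndex hs) := Finite.sum_right (Fin k)
  haveI := Fintype.ofFinite (Module.Basis.sumExtendIndex hs)
  have hcard : Fintype.card (Module.Basis.sumExtendIndex hs) = n - k := by
    have h := Module.finrank_eq_card_basis b₀
    rw [Module.finrank_fintype_fun_eq_card, Fintype.card_fin, Fintype.card_sum, Fintype.card_fin] at h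
    omega
  let b : Module.Basis (Fin k ⊕ Fin (n - k)) F (Fin n → F) :=
    b₀.reindex (Equiv.sumCongr (Equiv.refl _) (Fintype.equivFinOfCardEq hcard))
  have hb : ∀ i, b (Sum.inl i) = s i := fun i => by
    simp only [b, b₀, Module.Basis.reindex_apply, Equiv.sumCongr_symm, Equiv.sumCongr_apply, Equiv.refl_symm,
      Equiv.coe_refl, Sum.map_inl, id_eq]
    simp [Module.Basis.sumExtend]
    rfl
  let e : Matrix (Fin n) (Fin n) F ≃ₐ[F] Matrix (Fin k ⊕ Fin (n - k)) (Fin k ⊕ Fin (n - k)) F :=
    Matrix.toLinAlgEquiv'.trans (LinearMap.toMatrixAlgEquiv b)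
  have hcol : ∀ (M : Matrix (Fin n) (Fin n) F) (r : Fin k ⊕ Fin (n - k)) (i : Fin k),
      e M r (Sum.inl i) = b.repr (M *ᵥ s i) r := fun M r i => by
    simp [e, LinearMap.toMatrixAlgEquiv_apply, hb]
  have hiff : ∀ M, (IsNilpotent M ∧ IsChain M s) ↔
      (IsNilpotent (e M) ∧ (e M).toBlocks₁₁ = chainMat F k ∧ (e M).toBlocks₂₁ = 0) := by
    intro M
    refine and_congr (IsNilpotent.map_iff e.injective).symm ?_
    constructor
    · intro h
      refine ⟨Matrix.ext fun r i => ?_, Matrix.ext fun r i => ?_⟩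
      · simp only [toBlocks₁₁, of_apply, hcol, h i]
        by_cases hi : (i : ℕ) + 1 < k
        · rw [dif_pos hi, ← hb, Module.Basis.repr_self, Finsupp.single_apply, chainMat]
          exact if_congr (by simp [Fin.ext_iff, eq_comm]) rfl rfl
        · rw [dif_neg hi, map_zero, chainMat, if_neg (by have := r.2; omega)]
          rfl
      · simp only [toBlocks₂₁, of_apply, hcol, h i]
        by_cases hi : (i : ℕ) + 1 < k
        · rw [dif_pos hi, ← hb, Module.Basis.repr_self, Finsupp.single_eq_of_ne (by simp)]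
          rfl
        · rw [dif_neg hi, map_zero]
          rfl
    · rintro ⟨h11, h21⟩ i
      refine b.ext_elem fun r => ?_
      rw [← hcol]
      rcases r with r | r
      · have h1 : e M (Sum.inl r) (Sum.inl i) = chainMat F k r i := congrFun (congrFun h11 r) i
        rw [h1]
        by_cases hi : (i : ℕ) + 1 < k
        · rw [dif_pos hi, ← hb, Module.Basis.repr_self, Finsupp.single_apply, chainMat]
          exact if_congr (by simp [Fin.ext_iff, eq_comm]) rfl rfl
        · rw [dif_neg hi, map_zero, chainMat, if_neg (by have := r.2; omega)]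
          rfl
      · have h1 : e M (Sum.inr r) (Sum.inl i) = 0 := congrFun (congrFun h21 r) i
        rw [h1]
        by_cases hi : (i : ℕ) + 1 < k
        · rw [dif_pos hi, ← hb, Module.Basis.repr_self, Finsupp.single_eq_of_ne (by simp)]
        · rw [dif_neg hi, map_zero]
          rfl
  rw [Nat.card_congr (e.toEquiv.subtypeEquiv (q := fun N => IsNilpotent N ∧ N.toBlocks₁₁ = chainMat F k ∧ N.toBlocks₂₁ = 0) hiff), Nat.card_congr blockEquiv, Nat.card_prod]
  congr 1
  have : Nat.card (Matrix (Fin k) (Fin (n - k)) F) = Nat.card (Fin k → Fin (n - k) → F) := rfl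
  rw [this, Nat.card_fun, Nat.card_fun, Nat.card_fin, Nat.card_fin, ← pow_mul, mul_comm]

/-- `(M, v)` as (length of the chain of `v`, the chain, `M`). -/
noncomputable def toPair (x : Σ k : Fin (n + 1), Σ s : {s : Fin (k : ℕ) → Fin n → F // LinearIndependent F s},
      {M : Matrix (Fin n) (Fin n) F // IsNilpotent M ∧ IsChain M s.1}) :
    {M : Matrix (Fin n) (Fin n) F // IsNilpotent M} × (Fin n → F) :=
  (⟨x.2.2.1, x.2.2.2.1⟩, if h : 0 < (x.1 : ℕ) then x.2.1.1 ⟨0, h⟩ else 0)

theorem chain_pow {k : ℕ} {M : Matrix (Fin n) (Fin n) F} {s : Fin k → Fin n → F} (hM : IsChain M s) {v : Fin n → F}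
    (hv : v = if h : 0 < k then s ⟨0, h⟩ else 0) :
    ∀ i, (M ^ i) *ᵥ v = if h : i < k then s ⟨i, h⟩ else 0 := by
  intro i
  induction i with
  | zero => rw [pow_zero, one_mulVec, hv]
  | succ i ih =>
    rw [pow_succ', ← mulVec_mulVec, ih]
    by_cases h : i < k
    · rw [dif_pos h, hM]
    · rw [dif_neg h, mulVec_zero, dif_neg (by omega)]

theorem linearIndependent_chain {M : Matrix (Fin n) (Fin n) F} {v : Fin n → F} {k : ℕ}
    (h0 : (M ^ k) *ᵥ v = 0) (hne : ∀ i < k, (M ^ i) *ᵥ v ≠ 0) :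
    LinearIndependent F (fun i : Fin k => (M ^ (i : ℕ)) *ᵥ v) := by
  classical
  rw [Fintype.linearIndependent_iff]
  intro c hc
  by_contra hcon
  push Not at hcon
  obtain ⟨j, hj⟩ := hcon
  let S := Finset.univ.filter (fun i : Fin k => c i ≠ 0)
  have hS : S.Nonempty := ⟨j, by simp [S, hj]⟩
  set i₀ := S.min' hS
  have hi₀ : c i₀ ≠ 0 := (Finset.mem_filter.1 (Finset.min'_mem S hS)).2
  have h1 := congrArg (fun w => (M ^ (k - 1 - (i₀ : ℕ))) *ᵥ w) hc
  simp only [mulVec_sum, mulVec_zero] at h1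
  rw [Finset.sum_eq_single i₀] at h1
  · rw [mulVec_smul, mulVec_mulVec, ← pow_add, smul_eq_zero] at h1
    exact h1.elim hi₀ (hne _ (by have := i₀.2; omega))
  · intro i _ hi
    by_cases hci : c i = 0
    · simp [hci]
    · have hle : (i₀ : ℕ) ≤ i := Finset.min'_le S i (Finset.mem_filter.2 ⟨Finset.mem_univ _, hci⟩)
      have hne' : (i₀ : ℕ) ≠ i := fun h => hi (Fin.ext h.symm)
      rw [mulVec_smul, mulVec_mulVec, ← pow_add,
        show k - 1 - (i₀ : ℕ) + (i : ℕ) = ((i : ℕ) - i₀ - 1) + k by have := i.2; omega,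
        pow_add, ← mulVec_mulVec, h0, mulVec_zero, smul_zero]
  · intro h
    exact absurd (Finset.mem_univ i₀) h

theorem toPair_bijective : Function.Bijective (toPair (F := F) (n := n)) := by
  classical
  constructor
  · rintro ⟨k, s, M, hM, hs⟩ ⟨k', s', M', hM', hs'⟩ h
    simp only [toPair, Prod.mk.injEq, Subtype.mk.injEq] at h
    obtain ⟨rfl, hv⟩ := h
    have p1 := chain_pow hs rfl
    have p2 := chain_pow hs' hv
    have hkk : k = k' := by
      refine Fin.ext (le_antisymm ?_ ?_) <;> by_contra hlt <;> push Not at hlt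
      · have := p1 (k' : ℕ)
        rw [p2, dif_neg (lt_irrefl _), dif_pos hlt] at this
        exact s.2.ne_zero _ this.symm
      · have := p1 (k : ℕ)
        rw [p2, dif_pos hlt, dif_neg (lt_irrefl _)] at this
        exact s'.2.ne_zero _ this
    subst hkk
    obtain rfl : s = s' := Subtype.ext (funext fun i => by
      have h1 := p1 (i : ℕ)
      rw [p2, dif_pos i.2, dif_pos i.2] at h1
      exact h1.symm)
    rfl
  · rintro ⟨⟨M, hM⟩, v⟩
    have hex : ∃ j, (M ^ j) *ᵥ v = 0 := by
      obtain ⟨j, hj⟩ := hM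
      exact ⟨j, by rw [hj, zero_mulVec]⟩
    set k := Nat.find hex with hk
    have hne : ∀ i < k, (M ^ i) *ᵥ v ≠ 0 := fun i hi => Nat.find_min hex hi
    have hli := linearIndependent_chain (Nat.find_spec hex) hne
    have hkn : k ≤ n := by
      have := hli.fintype_card_le_finrank
      rwa [Fintype.card_fin, Module.finrank_fintype_fun_eq_card, Fintype.card_fin] at this
    refine ⟨⟨⟨k, by omega⟩, ⟨_, hli⟩, M, hM, fun i => ?_⟩, ?_⟩
    · by_cases hi : (i : ℕ) + 1 < k
      · rw [dif_pos hi, mulVec_mulVec, ← pow_succ']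
      · rw [dif_neg hi, mulVec_mulVec, ← pow_succ']
        have : (i : ℕ) + 1 = k := le_antisymm i.2 (not_lt.1 hi)
        rw [this]
        exact Nat.find_spec hex
    · refine Prod.ext rfl ?_
      change (if h : 0 < k then (M ^ 0) *ᵥ v else 0) = v
      by_cases h : 0 < k
      · rw [dif_pos h, pow_zero, one_mulVec]
      · rw [dif_neg h]
        have h2 := Nat.find_spec hex
        rw [← hk, Nat.eq_zero_of_not_pos h, pow_zero, one_mulVec] at h2
        exact h2.symm

/-- The `q`-identity behind the count. -/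
theorem sum_identity (q : ℕ) (hq : 1 ≤ q) : ∀ n : ℕ,
    ∑ k ∈ Finset.range (n + 1), (∏ i ∈ Finset.range k, (q ^ n - q ^ i)) * q ^ ((n - k) * (n - 1)) = q ^ (n * n)
  | 0 => by simp
  | n + 1 => by
    have ih := sum_identity q hq n
    rw [Finset.sum_range_succ']
    have hstep : ∀ j ∈ Finset.range (n + 1),
        (∏ i ∈ Finset.range (j + 1), (q ^ (n + 1) - q ^ i)) * q ^ ((n + 1 - (j + 1)) * (n + 1 - 1)) =
          (q ^ (n + 1) - 1) * q ^ n * ((∏ i ∈ Finset.range j, (q ^ n - q ^ i)) * q ^ ((n - j) * (n - 1))) := by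
      intro j hj
      have hjn : j ≤ n := by simpa [Nat.lt_succ_iff] using hj
      rw [Finset.prod_range_succ', pow_zero]
      have h1 : ∏ i ∈ Finset.range j, (q ^ (n + 1) - q ^ (i + 1)) = q ^ j * ∏ i ∈ Finset.range j, (q ^ n - q ^ i) := by
        rw [Finset.prod_congr rfl (fun i _ => show q ^ (n + 1) - q ^ (i + 1) = q * (q ^ n - q ^ i) by
          rw [Nat.mul_sub, pow_succ', pow_succ']), Finset.prod_mul_distrib, Finset.prod_const, Finset.card_range]
      rw [h1, Nat.succ_sub_succ, Nat.add_sub_cancel]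
      have h2 : (n - j) * n + j = (n - j) * (n - 1) + n := by
        rcases Nat.eq_zero_or_pos n with rfl | hn
        · simp [Nat.le_zero.1 hjn]
        · obtain ⟨m, rfl⟩ := Nat.exists_eq_add_of_le hn
          rw [show 1 + m - 1 = m by omega, Nat.mul_add, Nat.mul_one]
          omega
      have h3 : q ^ j * q ^ ((n - j) * n) = q ^ ((n - j) * (n - 1)) * q ^ n := by
        rw [← pow_add, ← pow_add, ← h2, add_comm]
      calc q ^ j * (∏ i ∈ Finset.range j, (q ^ n - q ^ i)) * (q ^ (n + 1) - 1) * q ^ ((n - j) * n)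
          = (q ^ (n + 1) - 1) * (∏ i ∈ Finset.range j, (q ^ n - q ^ i)) * (q ^ j * q ^ ((n - j) * n)) := by ring
        _ = _ := by rw [h3]; ring
    rw [Finset.sum_congr rfl hstep, ← Finset.mul_sum, ih, Finset.prod_range_zero, one_mul, Nat.sub_zero, Nat.add_sub_cancel]
    obtain ⟨m, hm⟩ := Nat.exists_eq_add_of_le (Nat.one_le_pow (n + 1) q hq)
    rw [hm, Nat.add_sub_cancel_left]
    calc m * q ^ n * q ^ (n * n) + q ^ ((n + 1) * n)
        = (1 + m) * q ^ ((n + 1) * n) := by rw [show (n + 1) * n = n + n * n by ring, pow_add]; ring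
      _ = q ^ (n + 1) * q ^ ((n + 1) * n) := by rw [hm]
      _ = q ^ ((n + 1) * (n + 1)) := by rw [← pow_add]; congr 1; ring

/-- **Fine–Herstein.** -/
theorem card_nilpotent [Finite F] (n : ℕ) :
    Nat.card {M : Matrix (Fin n) (Fin n) F // IsNilpotent M} = Nat.card F ^ (n * (n - 1)) := by
  classical
  haveI := Fintype.ofFinite F
  have hq : 1 < Nat.card F := Finite.one_lt_card
  induction n using Nat.strong_induction_on with
  | _ n ih =>
  rcases Nat.eq_zero_or_pos n with rfl | hn
  · haveI : Unique {M : Matrix (Fin 0) (Fin 0) F // IsNilpotent M} :=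
      { default := ⟨0, IsNilpotent.zero⟩, uniq := fun M => Subtype.ext (Subsingleton.elim _ _) }
    rw [Nat.card_unique, zero_mul, pow_zero]
  set q := Nat.card F with hqdef
  set N := Nat.card {M : Matrix (Fin n) (Fin n) F // IsNilpotent M} with hN
  have hterm : ∀ k : Fin (n + 1), Nat.card (Σ s : {s : Fin (k : ℕ) → Fin n → F // LinearIndependent F s},
      {M : Matrix (Fin n) (Fin n) F // IsNilpotent M ∧ IsChain M s.1}) =
      (∏ i ∈ Finset.range k, (q ^ n - q ^ i)) *
        (if (k : ℕ) = 0 then N else q ^ ((n - k) * (n - 1))) := by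
    intro k
    have hkn : (k : ℕ) ≤ n := by omega
    rw [Nat.card_sigma, Finset.sum_congr rfl (fun s _ => card_chain s.1 s.2), Finset.sum_const, smul_eq_mul,
      Finset.card_univ, ← Nat.card_eq_fintype_card, card_linearIndependent (by simpa using hkn)]
    congr 1
    · simp only [Module.finrank_fintype_fun_eq_card, Fintype.card_fin, hqdef, Nat.card_eq_fintype_card]
      exact Fin.prod_univ_eq_prod_range (fun i => Fintype.card F ^ n - Fintype.card F ^ i) k
    · split_ifs with h
      · rw [h]; simp [hN]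
      · rw [ih (n - k) (by omega), ← pow_add]
        congr 1
        generalize (k : ℕ) = j at hkn
        obtain ⟨a, rfl⟩ := Nat.exists_eq_add_of_le hkn
        rw [Nat.add_sub_cancel_left]
        rcases Nat.eq_zero_or_pos a with rfl | hapos
        · simp
        · obtain ⟨b, rfl⟩ := Nat.exists_eq_add_of_le hapos
          rw [show 1 + b - 1 = b by omega, show j + (1 + b) - 1 = j + b by omega]
          ring
  have htot : ∑ k ∈ Finset.range (n + 1), (∏ i ∈ Finset.range k, (q ^ n - q ^ i)) *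
      (if k = 0 then N else q ^ ((n - k) * (n - 1))) = N * q ^ n := by
    rw [← Fin.sum_univ_eq_sum_range (fun k => (∏ i ∈ Finset.range k, (q ^ n - q ^ i)) *
      (if k = 0 then N else q ^ ((n - k) * (n - 1)))), ← Finset.sum_congr rfl (fun k _ => hterm k), ← Nat.card_sigma,
      Nat.card_congr (Equiv.ofBijective _ toPair_bijective), Nat.card_prod, Nat.card_fun, Nat.card_fin]
  have hid := sum_identity q hq.le n
  rw [Finset.sum_range_succ'] at htot hid
  simp only [Nat.succ_ne_zero, if_false, Finset.prod_range_zero, one_mul, Nat.sub_zero, if_true] at htot hid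
  generalize ∑ k ∈ Finset.range n, (∏ i ∈ Finset.range (k + 1), (q ^ n - q ^ i)) * q ^ ((n - (k + 1)) * (n - 1)) = S at htot hid
  have e1 : q ^ (n * n) = q ^ (n * (n - 1)) * q ^ n := by
    rw [← pow_add, ← Nat.mul_succ, Nat.succ_eq_add_one, show n - 1 + 1 = n by omega]
  obtain ⟨c, hc⟩ := Nat.exists_eq_add_of_le (Nat.one_lt_pow (show n ≠ 0 by omega) hq : 2 ≤ q ^ n)
  rw [e1, hc] at hid
  rw [hc] at htot
  refine Nat.eq_of_mul_eq_mul_left (show 0 < 1 + c by omega) ?_
  linarith [hid, htot]

end Cfsg.Agent.NilpotentCount
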